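import Mathlib

/-! Coordinates of the strong generators of `Q`. -/

namespace Cfsg.Agent.Lib.J4Cent62

def qTop : List ℕ := [4096, 121, 3722, 5765, 6213, 3355, 7515, 4013, 2704, 1979, 7635, 1, 467]

end Cfsg.Agent.Lib.J4Cent62
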