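import Cfsg.Agent.Lib.J4Cent62.Data.LM0
import Cfsg.Agent.Lib.J4Cent62.Data.LM1
import Cfsg.Agent.Lib.J4Cent62.Data.LM2
import Cfsg.Agent.Lib.J4Cent62.Data.LM3
import Cfsg.Agent.Lib.J4Cent62.Data.LM4
import Cfsg.Agent.Lib.J4Cent62.Data.LM5
import Cfsg.Agent.Lib.J4Cent62.Data.LM6
import Cfsg.Agent.Lib.J4Cent62.Data.LM7
import Cfsg.Agent.Lib.J4Cent62.Data.LM8
import Cfsg.Agent.Lib.J4Cent62.Data.LM9
import Cfsg.Agent.Lib.J4Cent62.Data.LM10
import Cfsg.Agent.Lib.J4Cent62.Data.LM11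
import Cfsg.Agent.Lib.J4Cent62.Data.LM12
import Cfsg.Agent.Lib.J4Cent62.Data.LQ0
import Cfsg.Agent.Lib.J4Cent62.Data.LQ1
import Cfsg.Agent.Lib.J4Cent62.Data.LQ2
import Cfsg.Agent.Lib.J4Cent62.Data.LQ3
import Cfsg.Agent.Lib.J4Cent62.Data.LQ4
import Cfsg.Agent.Lib.J4Cent62.Data.LQ5

/-! The chains. -/

set_option autoImplicit false
set_option maxRecDepth 100000
set_option exponentiation.threshold 13000

namespace Cfsg.Agent.Lib.J4Cent62

open Cfsg.Agent.Lib.Computation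

/-- The chain of `M` from level 0. -/
def cm0 : List (Level (ℕ × ℕ)) := [lm0, lm1, lm2, lm3, lm4, lm5, lm6, lm7, lm8, lm9, lm10, lm11, lm12]

/-- The chain of `M` from level 1. -/
def cm1 : List (Level (ℕ × ℕ)) := [lm1, lm2, lm3, lm4, lm5, lm6, lm7, lm8, lm9, lm10, lm11, lm12]

/-- The chain of `M` from level 2. -/
def cm2 : List (Level (ℕ × ℕ)) := [lm2, lm3, lm4, lm5, lm6, lm7, lm8, lm9, lm10, lm11, lm12]

/-- The chain of `M` from level 3. -/
def cm3 : List (Level (ℕ × ℕ)) := [lm3, lm4, lm5, lm6, lm7, lm8, lm9, lm10, lm11, lm12]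

/-- The chain of `M` from level 4. -/
def cm4 : List (Level (ℕ × ℕ)) := [lm4, lm5, lm6, lm7, lm8, lm9, lm10, lm11, lm12]

/-- The chain of `M` from level 5. -/
def cm5 : List (Level (ℕ × ℕ)) := [lm5, lm6, lm7, lm8, lm9, lm10, lm11, lm12]

/-- The chain of `M` from level 6. -/
def cm6 : List (Level (ℕ × ℕ)) := [lm6, lm7, lm8, lm9, lm10, lm11, lm12]

/-- The chain of `M` from level 7. -/
def cm7 : List (Level (ℕ × ℕ)) := [lm7, lm8, lm9, lm10, lm11, lm12]

/-- The chain of `M` from level 8. -/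
def cm8 : List (Level (ℕ × ℕ)) := [lm8, lm9, lm10, lm11, lm12]

/-- The chain of `M` from level 9. -/
def cm9 : List (Level (ℕ × ℕ)) := [lm9, lm10, lm11, lm12]

/-- The chain of `M` from level 10. -/
def cm10 : List (Level (ℕ × ℕ)) := [lm10, lm11, lm12]

/-- The chain of `M` from level 11. -/
def cm11 : List (Level (ℕ × ℕ)) := [lm11, lm12]

/-- The chain of `M` from level 12. -/
def cm12 : List (Level (ℕ × ℕ)) := [lm12]

/-- The chain of `Q` from level 0. -/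
def cq0 : List (Level (ℕ × ℕ)) := [lq0, lq1, lq2, lq3, lq4, lq5]

/-- The chain of `Q` from level 1. -/
def cq1 : List (Level (ℕ × ℕ)) := [lq1, lq2, lq3, lq4, lq5]

/-- The chain of `Q` from level 2. -/
def cq2 : List (Level (ℕ × ℕ)) := [lq2, lq3, lq4, lq5]

/-- The chain of `Q` from level 3. -/
def cq3 : List (Level (ℕ × ℕ)) := [lq3, lq4, lq5]

/-- The chain of `Q` from level 4. -/
def cq4 : List (Level (ℕ × ℕ)) := [lq4, lq5]

/-- The chain of `Q` from level 5. -/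
def cq5 : List (Level (ℕ × ℕ)) := [lq5]

end Cfsg.Agent.Lib.J4Cent62
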